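import Mathlib

/-!
# The function `S p n = ∑ ⌊n / ((p - 1) p ^ i)⌋`
-/

set_option autoImplicit false

open Finset

namespace Cfsg.Agent.Block.WinterBound

/-- The exponent in Schur's bound. -/
def S (p n : ℕ) : ℕ := ∑ i ∈ range (n + 1), n / ((p - 1) * p ^ i)

theorem S_eq {p n N : ℕ} (hp : 2 ≤ p) (hN : n + 1 ≤ N) :
    S p n = ∑ i ∈ range N, n / ((p - 1) * p ^ i) := by
  refine sum_subset (range_subset_range.2 hN) fun i hi hni => ?_
  rw [mem_range] at hi hni
  refine Nat.div_eq_of_lt ?_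
  have h1 : i < p ^ i := Nat.lt_pow_self (by omega)
  have h2 : p ^ i ≤ (p - 1) * p ^ i := Nat.le_mul_of_pos_left _ (by omega)
  omega

theorem S_add {p : ℕ} (hp : 2 ≤ p) (a b : ℕ) : S p a + S p b ≤ S p (a + b) := by
  rw [S_eq hp (show a + 1 ≤ a + b + 1 by omega), S_eq hp (show b + 1 ≤ a + b + 1 by omega),
    S, ← sum_add_distrib]
  exact sum_le_sum fun i _ => Nat.div_add_div_le_add_div

theorem S_mono {p : ℕ} (hp : 2 ≤ p) {a b : ℕ} (h : a ≤ b) : S p a ≤ S p b := by
  obtain ⟨c, rfl⟩ := Nat.exists_eq_add_of_le h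
  exact le_trans (Nat.le_add_right _ _) (S_add hp a c)

theorem S_sum {p : ℕ} (hp : 2 ≤ p) {ι : Type*} (s : Finset ι) (f : ι → ℕ) :
    ∑ i ∈ s, S p (f i) ≤ S p (∑ i ∈ s, f i) := by
  classical
  induction s using Finset.induction_on with
  | empty => simp
  | insert a s ha ih =>
    rw [sum_insert ha, sum_insert ha]
    exact le_trans (Nat.add_le_add_left ih _) (S_add hp _ _)

theorem geom_div {p : ℕ} (hp : 2 ≤ p) :
    ∀ (N M : ℕ), 1 ≤ M → (p - 1) * (∑ i ∈ range N, M / p ^ i) + 1 ≤ p * M := by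
  intro N
  induction N with
  | zero => intro M hM; simp; nlinarith
  | succ N ih =>
    intro M hM
    rw [sum_range_succ', Nat.mul_add, pow_zero, Nat.div_one]
    have h1 : ∀ i, M / p ^ (i + 1) = (M / p) / p ^ i := fun i => by
      rw [Nat.div_div_eq_div_mul, pow_succ']
    simp only [h1]
    have hpM : (p - 1) * M + M = p * M := by
      obtain ⟨q, rfl⟩ : ∃ q, p = q + 1 := ⟨p - 1, by omega⟩
      simp [add_mul]
    rcases Nat.eq_zero_or_pos (M / p) with h0 | h0
    · simp only [h0, Nat.zero_div, sum_const_zero, mul_zero]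
      omega
    · have h2 := ih (M / p) h0
      have h3 : p * (M / p) ≤ M := Nat.mul_div_le M p
      omega

theorem S_mul_step {p : ℕ} (hp : 2 ≤ p) {m : ℕ} (hm : 1 ≤ m) : 1 + p * S p m ≤ S p (p * m) := by
  have hN : p * m + 1 ≤ p * m + 1 + 1 := Nat.le_succ _
  rw [S_eq hp hN, sum_range_succ', pow_zero, mul_one]
  have h1 : ∀ i, p * m / ((p - 1) * p ^ (i + 1)) = m / ((p - 1) * p ^ i) := fun i => by
    rw [pow_succ', mul_left_comm, Nat.mul_div_mul_left _ _ (by omega : 0 < p)]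
  simp only [h1]
  have hle : m + 1 ≤ p * m + 1 := Nat.add_le_add_right (Nat.le_mul_of_pos_left m (by omega)) 1
  rw [← S_eq hp hle]
  have h2 : ∀ i, m / ((p - 1) * p ^ i) = (m / (p - 1)) / p ^ i := fun i =>
    (Nat.div_div_eq_div_mul m _ _).symm
  have h3 : S p m = ∑ i ∈ range (m + 1), (m / (p - 1)) / p ^ i := sum_congr rfl fun i _ => h2 i
  have h4 : p * (m / (p - 1)) ≤ p * m / (p - 1) := Nat.mul_div_le_mul_div_assoc p m (p - 1)
  have h5 : 1 ≤ p * m / (p - 1) := (Nat.one_le_div_iff (by omega)).2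
    (le_trans (by omega : p - 1 ≤ p) (Nat.le_mul_of_pos_right p hm))
  suffices (p - 1) * S p m + 1 ≤ p * m / (p - 1) by
    have h6 : p * S p m = (p - 1) * S p m + S p m := by
      obtain ⟨q, rfl⟩ : ∃ q, p = q + 1 := ⟨p - 1, by omega⟩
      simp [add_mul]
    omega
  rcases Nat.eq_zero_or_pos (m / (p - 1)) with h0 | h0
  · rw [h3, h0]
    simpa using h5
  · rw [h3]
    exact le_trans (geom_div hp _ _ h0) h4

theorem two_mul_le_S {p : ℕ} (hp : 2 ≤ p) (j : ℕ) :
    2 * j + 1 ≤ S p ((p - 1) * p ^ j) := by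
  induction j with
  | zero =>
    rw [S, sum_range_succ', pow_zero, mul_one]
    simp [Nat.div_self (by omega : 0 < p - 1)]
  | succ j ih =>
    have h1 : 1 ≤ (p - 1) * p ^ j := Nat.one_le_iff_ne_zero.2
      (Nat.mul_ne_zero (by omega) (pow_ne_zero _ (by omega)))
    have h2 := S_mul_step hp h1
    rw [show p * ((p - 1) * p ^ j) = (p - 1) * p ^ (j + 1) by rw [pow_succ]; ring] at h2
    have h3 : 2 * S p ((p - 1) * p ^ j) ≤ p * S p ((p - 1) * p ^ j) := Nat.mul_le_mul_right _ hp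
    omega

end Cfsg.Agent.Block.WinterBound
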