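import Cfsg.Agent.Lib.Block.WinterBound.Rational
import Cfsg.Agent.Lib.Block.RelMcKay.GCorr
import Cfsg.Agent.Lib.Block.RelAlperin.Rational
import Cfsg.Agent.Lib.Block.TISylow
import Cfsg.Agent.Lib.Block.PPartDerived
import Cfsg.Agent.Lib.Grp.PComplement

/-!
# The Sylow index of `O_p` in a `p`-soluble linear group

A Sylow `p`-subgroup modulo `O_p` acts faithfully on a `p'`-group `K` embedded in the linear group.
The canonical extensions of the constituents on `K` give this `p`-group a character of degree at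
most `n` invariant under the power maps prime to `p`.
-/

set_option autoImplicit false
set_option linter.style.haveILetI false
set_option linter.unusedSectionVars false

open scoped ComplexConjugate Pointwise
open Cfsg Cfsg.Agent.Char

namespace Cfsg.Agent.Block.WinterBound

universe u

variable {Y : Type u} [Group Y] [Fintype Y] {p : ℕ} [hp : Fact p.Prime]

theorem extendByZero_pow (T : Subgroup Y) (η : T → ℂ) {k : ℕ} (hk : k.Coprime (Nat.card Y))
    (hη : ∀ t : T, η (t ^ k) = η t) (y : Y) :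
    extendByZero T η (y ^ k) = extendByZero T η y := by
  by_cases hy : y ∈ T
  · rw [extendByZero_of_mem _ hy, extendByZero_of_mem _ (T.pow_mem hy k)]
    exact hη ⟨y, hy⟩
  · rw [extendByZero_not_mem _ hy, extendByZero_not_mem _ fun h => hy ?_]
    obtain ⟨m, hm⟩ := exists_pow_eq_self_of_coprime
      (hk.coprime_dvd_right (orderOf_dvd_natCard y))
    exact hm ▸ T.pow_mem h m

variable {K : Subgroup Y} [hK : K.Normal]

theorem cj_eq_conjN (g : Y) (θ : K → ℂ) : RelMcKay.cj K g θ = conjN K g θ := by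
  funext k
  rw [RelMcKay.cj_apply (by rw [Subgroup.normalizer_eq_top]; trivial)]
  rfl

/-- The induced canonical extension of one constituent: its restriction is the orbit sum and it is
invariant under the power maps fixing `|K|`-th roots of unity. -/
theorem orbit_char (hKp : ¬ p ∣ Nat.card K) {a : ℕ} (hidx : K.index = p ^ a) {θ : K → ℂ}
    (hθ : IsIrrCharacter K θ) :
    ∃ F : Y → ℂ, IsCharacter Y F ∧ (∀ x : K, F x = ∑ φ ∈ conjOrbit K θ, φ x) ∧
      ∀ k : ℕ, k.Coprime (Nat.card Y) → k ≡ 1 [MOD Nat.card K] → ∀ x, F (x ^ k) = F x := by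
  classical
  set T := inertia K θ with hT
  have hKT : K ≤ T := le_inertia K (IsIrr.classFun hθ)
  have hSt : T ≤ RelMcKay.St K θ := fun g hg =>
    RelMcKay.mem_St.2 ⟨by rw [Subgroup.normalizer_eq_top]; trivial,
      (cj_eq_conjN g θ).trans ((mem_inertia K).1 hg)⟩
  obtain ⟨b, -, hb⟩ := (Nat.dvd_prime_pow hp.out).1
    (show K.relIndex T ∣ p ^ a from hidx ▸ Subgroup.relIndex_dvd_index_of_normal K T)
  obtain ⟨η, hη⟩ := RelMcKay.exists_can hKT hKp hb hθ hSt
  refine ⟨indFun T η, isCharacter_indFun T (IsIrr.isCharacter hη.1), fun x => ?_, ?_⟩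
  · have h1 : ∀ g : Y, extendByZero T η (g⁻¹ * x * g) = conjN K g⁻¹ θ x := fun g => by
      have hm : g⁻¹ * (x : Y) * g ∈ K := by simpa using hK.conj_mem (x : Y) x.2 g⁻¹
      rw [extendByZero_of_mem _ (hKT hm), conjN_apply, ← hη.2.1]
      exact congrArg η (Subtype.ext (by simp))
    show (Nat.card T : ℂ)⁻¹ * ∑ g : Y, extendByZero T η (g⁻¹ * x * g) = _
    simp only [h1]
    rw [Fintype.sum_equiv (Equiv.inv Y) (fun g => conjN K g⁻¹ θ x) (fun g => conjN K g θ x)
      (fun g => by simp)]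
    rw [← Finset.sum_fiberwise_of_maps_to (g := fun g => conjN K g θ) (t := conjOrbit K θ)
      (fun g _ => (mem_conjOrbit K).2 ⟨g, rfl⟩) (fun g => conjN K g θ x), Finset.mul_sum]
    refine Finset.sum_congr rfl fun φ hφ => ?_
    rw [Finset.sum_congr rfl (fun g hg => by rw [(Finset.mem_filter.1 hg).2]), Finset.sum_const]
    obtain ⟨g₀, rfl⟩ := (mem_conjOrbit K).1 hφ
    have hc : (Finset.univ.filter fun g => conjN K g θ = conjN K g₀ θ).card = Nat.card T := by
      rw [Nat.card_eq_fintype_card, ← Fintype.card_subtype]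
      refine Fintype.card_congr
        { toFun := fun g => ⟨g.1 * g₀⁻¹, (mem_inertia K).2 ?_⟩
          invFun := fun t => ⟨t.1 * g₀, ?_⟩
          left_inv := fun g => Subtype.ext (by simp)
          right_inv := fun t => Subtype.ext (by simp) }
      · rw [conjN_mul, g.2, conjN_inv_cancel]
      · rw [conjN_mul, (mem_inertia K).1 t.2]
    rw [hc, nsmul_eq_mul, inv_mul_cancel_left₀ (Nat.cast_ne_zero.2 Nat.card_pos.ne')]
  · intro k hk hk1 x
    have hkT : k.Coprime (Nat.card T) := hk.coprime_dvd_right (Subgroup.card_subgroup_dvd_card T)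
    have hη' : RelMcKay.IsCan p hKT θ (fun t => η (t ^ k)) := by
      refine ⟨IsIrr.pow_map hη.1 hkT, ?_, ?_⟩
      · funext m
        have hm : m ^ k = m := by
          conv_rhs => rw [← pow_one m]
          exact pow_eq_pow_iff_modEq.2 (hk1.of_dvd (orderOf_dvd_natCard m))
        show η ((Subgroup.inclusion hKT m) ^ k) = θ m
        rw [← map_pow, hm]
        exact congrFun hη.2.1 m
      · have hd : detChar (fun t : T => η (t ^ k)) = detChar η ^ k :=
          funext fun g => RelAlperin.detChar_pow hη.1 hkT g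
        rw [hd]
        exact fun h => hη.2.2 (h.trans (orderOf_pow_dvd k))
    have hu := RelMcKay.IsCan.unique (hSt.trans (RelMcKay.St_le_normalizer K θ)) hKp hb hθ hη hη'
    show (Nat.card T : ℂ)⁻¹ * ∑ g : Y, extendByZero T η (g⁻¹ * x ^ k * g) = _
    congr 1
    refine Finset.sum_congr rfl fun g _ => ?_
    have hg : g⁻¹ * x ^ k * g = (g⁻¹ * x * g) ^ k := by
      have := conj_pow (i := k) (a := g⁻¹) (b := x)
      rw [inv_inv] at this
      exact this.symm
    rw [hg]
    exact extendByZero_pow T η hk (fun t => (congrFun hu t).symm) _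

/-- A character whose restriction is the sum over a stable set of irreducible characters. -/
theorem stable_char (hKp : ¬ p ∣ Nat.card K) {a : ℕ} (hidx : K.index = p ^ a) :
    ∀ Θ : Finset (K → ℂ), (∀ φ ∈ Θ, IsIrrCharacter K φ) →
      (∀ φ ∈ Θ, ∀ g : Y, conjN K g φ ∈ Θ) →
      ∃ F : Y → ℂ, IsCharacter Y F ∧ (∀ x : K, F x = ∑ φ ∈ Θ, φ x) ∧
        ∀ k : ℕ, k.Coprime (Nat.card Y) → k ≡ 1 [MOD Nat.card K] → ∀ x, F (x ^ k) = F x := by
  classical
  intro Θ
  induction Θ using Finset.strongInduction with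
  | _ Θ ih =>
    intro hirr hst
    rcases Θ.eq_empty_or_nonempty with rfl | ⟨θ, hθ⟩
    · exact ⟨0, IsChar.zero, fun x => by simp, fun k _ _ x => rfl⟩
    have hsub : conjOrbit K θ ⊆ Θ := fun φ hφ => by
      obtain ⟨g, rfl⟩ := (mem_conjOrbit K).1 hφ
      exact hst θ hθ g
    obtain ⟨F₁, h1, h1r, h1k⟩ := orbit_char hKp hidx (hirr θ hθ)
    obtain ⟨F₂, h2, h2r, h2k⟩ := ih (Θ \ conjOrbit K θ)
      (Finset.sdiff_ssubset hsub ⟨θ, (mem_conjOrbit K).2 ⟨1, conjN_one K θ⟩⟩)
      (fun φ hφ => hirr φ (Finset.mem_sdiff.1 hφ).1) fun φ hφ g => by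
        rw [Finset.mem_sdiff] at hφ ⊢
        refine ⟨hst φ hφ.1 g, fun hmem => hφ.2 ?_⟩
        obtain ⟨x, hx⟩ := (mem_conjOrbit K).1 hmem
        exact (mem_conjOrbit K).2 ⟨x * g⁻¹, by rw [conjN_mul, hx, conjN_inv_cancel]⟩
    refine ⟨F₁ + F₂, IsChar.add h1 h2, fun x => ?_, fun k hk hk1 x => ?_⟩
    · rw [Pi.add_apply, h1r, h2r, ← Finset.sum_sdiff hsub, add_comm]
    · rw [Pi.add_apply, Pi.add_apply, h1k k hk hk1, h2k k hk hk1]

theorem re_irr_le {φ : K → ℂ} (hφ : IsIrrCharacter K φ) (g : K) :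
    (φ g).re ≤ (φ 1).re ∧ ((φ g).re = (φ 1).re → φ g = φ 1) := by
  obtain ⟨n, ρ, rfl⟩ := IsIrr.isCharacter hφ
  have h := norm_character_le ρ g
  rw [Representation.char_one, Complex.natCast_re]
  refine ⟨(Complex.re_le_norm _).trans h, fun he => ?_⟩
  have h2 := Complex.sq_norm (ρ.character g)
  rw [Complex.normSq_apply] at h2
  have h3 : ‖ρ.character g‖ = (Module.finrank ℂ (Fin n → ℂ) : ℝ) :=
    le_antisymm h (he ▸ Complex.re_le_norm _)
  rw [h3, he] at h2
  have him : (ρ.character g).im * (ρ.character g).im = 0 := by nlinarith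
  exact Complex.ext (by simpa using he) (by simpa using mul_self_eq_zero.1 him)

/-- A `p`-subgroup acting on a normal `p'`-subgroup. -/
theorem card_le_centralizing (hKp : ¬ p ∣ Nat.card K) {a : ℕ} (hidx : K.index = p ^ a)
    (P : Subgroup Y) (hP : IsPGroup p P) {χ : Y → ℂ} (hχ : IsCharacter Y χ) {n : ℕ}
    (hn : χ 1 = (n : ℂ)) (hfaith : ∀ g : K, χ g = χ 1 → g = 1) :
    ∃ C : Subgroup Y, C ≤ P ∧ (∀ c ∈ C, ∀ k ∈ K, c * k = k * c) ∧
      Nat.card P ≤ p ^ S p n * Nat.card C := by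
  classical
  haveI := Fintype.ofFinite K
  obtain ⟨c, hc, hdec⟩ := IsChar.exists_decomp_inner (IsChar.res hχ K)
  set Θ : Finset (K → ℂ) :=
    (Finset.univ.filter fun φ : IrrCharacter K => c φ ≠ 0).image
    fun φ : IrrCharacter K => (φ : K → ℂ) with hΘ
  have hΘirr : ∀ φ ∈ Θ, IsIrrCharacter K φ := fun φ hφ => by
    obtain ⟨ψ, -, rfl⟩ := Finset.mem_image.1 hφ
    exact ψ.2
  obtain ⟨F, hF, hFr, hFk⟩ := stable_char hKp hidx Θ hΘirr fun φ hφ g => by
    obtain ⟨ψ, hψ, rfl⟩ := Finset.mem_image.1 hφ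
    refine Finset.mem_image.2 ⟨⟨_, IsIrr.conjN K ψ.2 g⟩, Finset.mem_filter.2
      ⟨Finset.mem_univ _, fun h0 => (Finset.mem_filter.1 hψ).2 (Nat.cast_injective (R := ℂ) ?_)⟩, rfl⟩
    rw [← hc, Nat.cast_zero, ← classInner_res_conjN K (IsChar.classFun hχ) _ g]
    exact (hc ⟨_, IsIrr.conjN K ψ.2 g⟩).trans (by rw [h0, Nat.cast_zero])
  have hval : ∀ x : K, F x = ∑ φ ∈ Finset.univ.filter (fun φ : IrrCharacter K => c φ ≠ 0),
      (φ : K → ℂ) x := fun x => by
    rw [hFr, hΘ, Finset.sum_image fun φ _ ψ _ h => Subtype.ext h]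
  obtain ⟨m, hm⟩ := exists_degree hF
  have hdec' : ∀ x : K, χ x = ∑ φ ∈ Finset.univ.filter (fun φ : IrrCharacter K => c φ ≠ 0),
      (c φ : ℂ) * (φ : K → ℂ) x := fun x => by
    have h1 := congrFun hdec x
    rw [Finset.sum_apply] at h1
    rw [h1, Finset.sum_filter]
    refine Finset.sum_congr rfl fun φ _ => ?_
    split_ifs with h
    · rfl
    · simp [not_not.1 h]
  have hmn : m ≤ n := by
    have h1 : (m : ℝ) ≤ n := by
      rw [show (m : ℝ) = (F ((1 : K) : Y)).re by rw [Subgroup.coe_one, hm, Complex.natCast_re],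
        show (n : ℝ) = (χ ((1 : K) : Y)).re by rw [Subgroup.coe_one, hn, Complex.natCast_re],
        hval, hdec', Complex.re_sum, Complex.re_sum]
      refine Finset.sum_le_sum fun φ hφ => ?_
      obtain ⟨d, hd⟩ := exists_degree (IsIrr.isCharacter φ.2)
      rw [hd, ← Nat.cast_mul, Complex.natCast_re, Complex.natCast_re, Nat.cast_le]
      exact Nat.le_mul_of_pos_left d (Nat.pos_of_ne_zero (Finset.mem_filter.1 hφ).2)
    exact_mod_cast h1
  let FP : P → ℂ := fun x => F x
  have hFPc : IsCharacter P FP := IsChar.res hF P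
  have hFPr : PowInv p FP := by
    intro k hk x
    obtain ⟨e, he⟩ := IsPGroup.iff_card.mp hP
    have hcop : (p ^ (e + 1)).Coprime (Nat.card K) :=
      Nat.Coprime.pow_left _ (hp.out.coprime_iff_not_dvd.2 hKp)
    obtain ⟨k', hk'1, hk'2⟩ := Nat.chineseRemainder hcop k 1
    have hk'p : k'.Coprime p := by
      rw [Nat.coprime_iff_gcd_eq_one, (hk'1.of_dvd (dvd_pow_self p e.succ_ne_zero)).gcd_eq]
      exact hk
    have hk'Y : k'.Coprime (Nat.card Y) := by
      rw [← K.card_mul_index, hidx]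
      refine Nat.Coprime.mul_right ?_ (Nat.Coprime.pow_right _ hk'p)
      rw [Nat.coprime_iff_gcd_eq_one, hk'2.gcd_eq]
      exact Nat.gcd_one_left _
    have hx : x ^ k = x ^ k' := pow_eq_pow_iff_modEq.2 (hk'1.symm.of_dvd
      ((orderOf_dvd_natCard x).trans (he ▸ pow_dvd_pow p e.le_succ)))
    show F ((x ^ k : P) : Y) = F x
    rw [hx, Subgroup.coe_pow]
    exact hFk k' hk'Y hk'2 x
  have hFP1 : FP 1 = (m : ℂ) := hm
  obtain ⟨C, hC, hCi⟩ := index_ker_le (bound_all m) hP hFPc hFP1 hFPr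
  refine ⟨C.map P.subtype, Subgroup.map_subtype_le C, fun y hy k hk => ?_, ?_⟩
  · obtain ⟨x, hx, rfl⟩ := hy
    have hx1 : F (x : Y) = F 1 := hC x hx
    obtain ⟨d, ρ, rfl⟩ := hF
    rw [Representation.char_one, character_eq_finrank_iff] at hx1
    set w : Y := (x : Y) * k * (x : Y)⁻¹ * k⁻¹ with hw
    have hwK : w ∈ K := K.mul_mem (hK.conj_mem k hk _) (K.inv_mem hk)
    have hρx : ρ (x : Y)⁻¹ = 1 := by
      have h2 : ρ (x : Y) * ρ (x : Y)⁻¹ = 1 := by rw [← map_mul, mul_inv_cancel, map_one]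
      rwa [show ρ (x : Y) = 1 from hx1, one_mul] at h2
    have hρw : ρ w = 1 := by
      rw [hw, map_mul, map_mul, map_mul, hρx, show ρ (x : Y) = 1 from hx1, one_mul, mul_one,
        ← map_mul, mul_inv_cancel, map_one]
    have hsum := hval ⟨w, hwK⟩
    rw [show ρ.character w = ρ.character ((1 : K) : Y) by
      rw [Representation.character, Representation.character, hρw, Subgroup.coe_one, map_one ρ],
      hval] at hsum
    have hre := congrArg Complex.re hsum
    rw [Complex.re_sum, Complex.re_sum] at hre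
    have heach := (Finset.sum_eq_sum_iff_of_le
      (fun φ _ => (re_irr_le (φ : IrrCharacter K).2 ⟨w, hwK⟩).1)).1 hre.symm
    have hχw : χ ((⟨w, hwK⟩ : K) : Y) = χ 1 := by
      rw [show χ 1 = χ ((1 : K) : Y) from rfl, hdec', hdec']
      refine Finset.sum_congr rfl fun φ hφ => ?_
      rw [(re_irr_le φ.2 ⟨w, hwK⟩).2 (heach φ hφ)]
    have hw1 : w = 1 := congrArg Subtype.val (hfaith ⟨w, hwK⟩ hχw)
    rw [hw, mul_inv_eq_one, mul_inv_eq_iff_eq_mul] at hw1
    exact hw1
  · rw [Subgroup.card_map_of_injective P.subtype_injective, ← C.card_mul_index, mul_comm]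
    exact Nat.mul_le_mul_right _ (hCi.trans
      (Nat.pow_le_pow_right hp.out.pos (S_mono hp.out.two_le hmn)))

/-- Winter's bound. -/
theorem pCore_index_bound {G : Type u} [Group G] [Finite G] (hsolv : IsPSolvable p G) {χ : G → ℂ}
    (hχ : IsCharacter G χ) {n : ℕ} (hn : χ 1 = (n : ℂ))
    (hfaith : ∀ g : G, χ g = χ 1 → g = 1) :
    ((pCore p G).index).factorization p ≤ S p n := by
  classical
  set R := pCore p G with hR
  haveI hRn : R.Normal := Grp.pCore_isNormal
  have hRp : IsPGroup p R := Grp.pCore_isPGroup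
  set π := QuotientGroup.mk' R
  have hπ : Function.Surjective π := QuotientGroup.mk'_surjective R
  have hQs : IsPSolvable p (G ⧸ R) := Grp.isPSolvable_map hsolv π hπ
  have hcent := centralizer_pPrimeCore_le (p := p) hQs PPartDerived.pCore_quotient_eq_bot
  set Mb := pPrimeCore p (G ⧸ R)
  haveI : Mb.Normal := Grp.pPrimeCore_isNormal
  set M := Mb.comap π with hM
  haveI hMn : M.Normal := Subgroup.Normal.comap inferInstance π
  have hMs := PPartDerived.isPSolvable_subgroup hsolv M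
  obtain ⟨H, hH⟩ := Grp.PCompl.exists_compl hMs
  set K := H.map M.subtype with hK
  have hKM : K ≤ M := Subgroup.map_subtype_le H
  have hKcard : Nat.card K = Nat.card H := Subgroup.card_map_of_injective M.subtype_injective
  set N := Subgroup.normalizer (K : Set G) with hN
  -- the Frattini argument
  have hfrat : ∀ g : G, ∃ m ∈ M, m⁻¹ * g ∈ N := by
    intro g
    let e : M ≃* M := MulAut.conjNormal g
    have hH' : Grp.PCompl.IsCompl' p (H.map e.toMonoidHom) := by
      refine ⟨?_, ?_⟩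
      · rw [Subgroup.card_map_of_injective (f := e.toMonoidHom) e.injective]; exact hH.1
      · rw [Subgroup.index_map_of_bijective (f := e.toMonoidHom) e.bijective]; exact hH.2
    obtain ⟨m, hm⟩ := Grp.PCompl.conj_eq hMs hH hH'
    have hmem : ∀ y : G, y ∈ K ↔ (g⁻¹ * (m : G)) * y * (g⁻¹ * (m : G))⁻¹ ∈ K := by
      have h1 : ∀ y ∈ K, (g⁻¹ * (m : G)) * y * (g⁻¹ * (m : G))⁻¹ ∈ K := by
        rintro _ ⟨h, hh, rfl⟩
        have h2 : MulAut.conj m h ∈ H.map e.toMonoidHom :=
          hm ▸ Subgroup.smul_mem_pointwise_smul h (MulAut.conj m) H hh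
        obtain ⟨h', hh', he⟩ := h2
        refine ⟨h', hh', ?_⟩
        have he' := congrArg Subtype.val he
        change g * (h' : G) * g⁻¹ = (m : G) * h * (m : G)⁻¹ at he'
        show (h' : G) = g⁻¹ * (m : G) * h * (g⁻¹ * (m : G))⁻¹
        calc (h' : G) = g⁻¹ * (g * h' * g⁻¹) * g := by group
          _ = _ := by rw [he']; group
      intro y
      refine ⟨h1 y, fun hy => ?_⟩
      have hsub : K.map (MulAut.conj (g⁻¹ * (m : G))).toMonoidHom ≤ K := by
        rintro _ ⟨z, hz, rfl⟩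
        exact h1 z hz
      have heq := Subgroup.eq_of_le_of_card_ge hsub
        (Subgroup.card_map_of_injective
          (f := (MulAut.conj (g⁻¹ * (m : G))).toMonoidHom) (MulEquiv.injective _)).ge
      rw [← heq] at hy
      obtain ⟨z, hz, hzy⟩ := hy
      exact (MulEquiv.injective _ hzy) ▸ hz
    refine ⟨m, m.2, ?_⟩
    have h3 : g⁻¹ * (m : G) ∈ N := Subgroup.mem_normalizer_iff.2 hmem
    simpa using N.inv_mem h3
  -- M = K R
  have hKmap : K.map π = Mb := by
    refine le_antisymm (Subgroup.map_le_iff_le_comap.2 hKM) fun y hy => ?_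
    obtain ⟨x, rfl⟩ := hπ y
    let f : M →* Mb := (π.comp M.subtype).codRestrict Mb fun x => x.2
    have hfs : Function.Surjective f := fun z => by
      obtain ⟨w, hw⟩ := hπ z.1
      exact ⟨⟨w, show π w ∈ Mb from hw.symm ▸ z.2⟩, Subtype.ext hw⟩
    obtain ⟨b, hb⟩ := hH.2
    have h1 : (H.map f).index ∣ p ^ b := hb ▸ H.index_map_dvd hfs
    have h2 : (H.map f).index ∣ Nat.card Mb := Subgroup.index_dvd_card _
    have h3 : (H.map f).index = 1 := Nat.eq_one_of_dvd_coprimes
      (Nat.Coprime.pow_left b (hp.out.coprime_iff_not_dvd.2 Grp.pPrimeCore_not_dvd)) h1 h2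
    obtain ⟨h, hh, hfe⟩ := (Subgroup.index_eq_one.1 h3).symm ▸ Subgroup.mem_top (⟨π x, hy⟩ : Mb)
    exact ⟨h, ⟨h, hh, rfl⟩, congrArg Subtype.val hfe⟩
  have hsurj : ∀ g : G, ∃ y ∈ N, π y = π g := by
    intro g
    obtain ⟨m, hm, hmg⟩ := hfrat g
    obtain ⟨k, hk, hkm⟩ := (show π m ∈ K.map π from hKmap.symm ▸ hm)
    refine ⟨k * (m⁻¹ * g), N.mul_mem (Subgroup.le_normalizer hk) hmg, ?_⟩
    rw [map_mul, hkm, ← map_mul, mul_inv_cancel_left]
  let πN : N →* G ⧸ R := π.comp N.subtype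
  have hπN : Function.Surjective πN := fun y => by
    obtain ⟨g, rfl⟩ := hπ y
    obtain ⟨w, hw, hwg⟩ := hsurj g
    exact ⟨⟨w, hw⟩, hwg⟩
  obtain ⟨P⟩ := (inferInstance : Nonempty (Sylow p N))
  let P₀ : Subgroup G := (P : Subgroup N).map N.subtype
  have hP₀N : P₀ ≤ N := Subgroup.map_subtype_le _
  have hP₀ : IsPGroup p P₀ := P.isPGroup'.map _
  set Y : Subgroup G := K ⊔ P₀
  have hYN : Y ≤ N := sup_le Subgroup.le_normalizer hP₀N
  haveI hKY : (K.subgroupOf Y).Normal := Subgroup.normal_subgroupOf_of_le_normalizer hYN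
  haveI := Fintype.ofFinite Y
  have hKp : ¬ p ∣ Nat.card (K.subgroupOf Y) := by
    rw [Nat.card_congr (Subgroup.subgroupOfEquivOfLe le_sup_left).toEquiv, hKcard]
    exact hp.out.coprime_iff_not_dvd.1 hH.1.symm
  obtain ⟨a, ha⟩ : ∃ a, (K.subgroupOf Y).index = p ^ a := by
    obtain ⟨e, he⟩ := IsPGroup.iff_card.mp hP₀
    have h1 : (K.subgroupOf Y).index ∣ Nat.card P₀ := by
      let f : P₀ →* Y ⧸ K.subgroupOf Y :=
        (QuotientGroup.mk' _).comp (Subgroup.inclusion le_sup_right)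
      have hf : Function.Surjective f := fun q => by
        obtain ⟨⟨y, hy⟩, rfl⟩ := QuotientGroup.mk'_surjective _ q
        have hy' : y ∈ (↑(K ⊔ P₀) : Set G) := hy
        rw [Subgroup.coe_mul_of_right_le_normalizer_left K P₀ hP₀N] at hy'
        obtain ⟨k, hk, x, hx, rfl⟩ := hy'
        refine ⟨⟨x, hx⟩, (QuotientGroup.eq (s := K.subgroupOf Y)).2 ?_⟩
        show x⁻¹ * (k * x) ∈ K
        have := (Subgroup.mem_normalizer_iff.1 (N.inv_mem (hP₀N hx)) k).1 hk
        simpa [mul_assoc] using this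
      exact Subgroup.card_dvd_of_surjective f hf
    obtain ⟨a, -, ha⟩ := (Nat.dvd_prime_pow hp.out).1 (he ▸ h1)
    exact ⟨a, ha⟩
  obtain ⟨C, hCP, hCK, hcard⟩ := card_le_centralizing (Y := Y) hKp ha (P₀.subgroupOf Y)
    (hP₀.of_equiv (Subgroup.subgroupOfEquivOfLe le_sup_right).symm) (IsChar.res hχ Y) hn
    fun g hg => Subtype.ext (Subtype.ext (hfaith _ hg))
  rw [Nat.card_congr (Subgroup.subgroupOfEquivOfLe (le_sup_right : P₀ ≤ Y)).toEquiv] at hcard
  -- elements of the p-group centralising K lie in R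
  have hCR : C.map Y.subtype ≤ P₀ ⊓ R := by
    rintro _ ⟨c, hc, rfl⟩
    have hcP : (c : G) ∈ P₀ := hCP hc
    refine ⟨hcP, (QuotientGroup.eq_one_iff (c : G)).1 ?_⟩
    have hcM : π (c : G) ∈ Mb := hcent (Subgroup.mem_centralizer_iff.2 fun y hy => by
      obtain ⟨k, hk, rfl⟩ := (hKmap.symm ▸ hy : y ∈ K.map π)
      have := congrArg Subtype.val (hCK c hc ⟨k, Subgroup.mem_sup_left hk⟩ hk)
      change (c : G) * k = k * (c : G) at this
      show π k * π (c : G) = π (c : G) * π k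
      rw [← map_mul, ← map_mul, this])
    obtain ⟨j, hj⟩ := hP₀ ⟨c, hcP⟩
    have h1 : orderOf (π (c : G)) ∣ p ^ j := by
      refine orderOf_dvd_of_pow_eq_one ?_
      have := congrArg Subtype.val hj
      change (c : G) ^ p ^ j = 1 at this
      rw [← map_pow, this, map_one]
    have h2 : orderOf (π (c : G)) ∣ Nat.card Mb := by
      rw [← Subgroup.orderOf_mk (π (c : G)) hcM]
      exact orderOf_dvd_natCard _
    exact orderOf_eq_one_iff.1 (Nat.eq_one_of_dvd_coprimes
      (Nat.Coprime.pow_left j (hp.out.coprime_iff_not_dvd.2 Grp.pPrimeCore_not_dvd)) h1 h2)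
  -- count
  have hv : Nat.card (G ⧸ R) * Nat.card πN.ker = Nat.card N := by
    rw [← Nat.card_congr (QuotientGroup.quotientKerEquivOfSurjective πN hπN).toEquiv,
      ← Subgroup.card_eq_card_quotient_mul_card_subgroup]
  have hPR : Nat.card ↥(P₀ ⊓ R) ≤ p ^ (Nat.card πN.ker).factorization p := by
    obtain ⟨e, he⟩ := IsPGroup.iff_card.mp (hRp.to_le (inf_le_right : P₀ ⊓ R ≤ R))
    have hle : (P₀ ⊓ R).subgroupOf N ≤ πN.ker := fun x hx =>
      (QuotientGroup.eq_one_iff (x : G)).2 hx.2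
    have hdvd := Subgroup.card_dvd_of_le hle
    rw [Nat.card_congr (Subgroup.subgroupOfEquivOfLe
      ((inf_le_left : P₀ ⊓ R ≤ P₀).trans hP₀N)).toEquiv, he] at hdvd
    rw [he]
    exact Nat.pow_le_pow_right hp.out.pos
      ((hp.out.pow_dvd_iff_le_factorization Nat.card_pos.ne').1 hdvd)
  have hP₀card : Nat.card P₀ = p ^ (Nat.card N).factorization p := by
    rw [Subgroup.card_map_of_injective N.subtype_injective, P.card_eq_multiplicity]
  have hC : Nat.card C ≤ p ^ (Nat.card πN.ker).factorization p := by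
    refine le_trans ?_ hPR
    rw [← Subgroup.card_map_of_injective (K := C) (f := Y.subtype) Y.subtype_injective]
    exact Subgroup.card_le_of_le hCR
  rw [hP₀card, ← hv, Nat.factorization_mul Nat.card_pos.ne' Nat.card_pos.ne', Finsupp.add_apply,
    pow_add, ← Subgroup.index_eq_card] at hcard
  have h2 := hcard.trans (Nat.mul_le_mul_left _ hC)
  exact (Nat.pow_le_pow_iff_right hp.out.one_lt).1
    (Nat.le_of_mul_le_mul_right h2 (pow_pos hp.out.pos _))

end Cfsg.Agent.Block.WinterBound
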