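import Cfsg.Agent.Lib.Block.WinterBound.Arith
import Cfsg.Agent.Lib.Char.Average
import Cfsg.Agent.Lib.Char.Galois
import Cfsg.Agent.Lib.Fus.CaminaPairBasic

/-!
# Finite `p`-groups with a faithful rational character of degree `n`

Such a group has order at most `p ^ S p n`. The induction splits the character by the kernels
inside a normal subgroup of order `p ^ 2` and exponent `p`; when there is none, a self-centralizing
cyclic normal subgroup gives the bound directly.
-/

set_option autoImplicit false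
set_option linter.style.haveILetI false
set_option linter.unusedSectionVars false

open scoped ComplexConjugate
open Cfsg Cfsg.Agent.Char

namespace Cfsg.Agent.Block.WinterBound

universe u

variable {P : Type u} [Group P] [Finite P] {p : ℕ} [hp : Fact p.Prime]

/-- Invariance under the power maps prime to `p`. -/
def PowInv (p : ℕ) (R : P → ℂ) : Prop := ∀ k : ℕ, k.Coprime p → ∀ x, R (x ^ k) = R x

theorem char_zero {R : P → ℂ} (h : IsCharacter P R) (h0 : R 1 = 0) : R = 0 := by
  obtain ⟨n, ρ, rfl⟩ := h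
  rw [Representation.char_one, Nat.cast_eq_zero, Module.finrank_fin_fun] at h0
  subst h0
  funext g
  rw [Representation.character, Subsingleton.elim (ρ g) 0, map_zero, Pi.zero_apply]

theorem exists_degree {R : P → ℂ} (h : IsCharacter P R) : ∃ m : ℕ, R 1 = m := by
  obtain ⟨n, ρ, rfl⟩ := h
  exact ⟨_, Representation.char_one ρ⟩

theorem isChar_sub_avgN (N : Subgroup P) [N.Normal] [Fintype N] {χ : P → ℂ}
    (h : IsCharacter P χ) : IsCharacter P (χ - avgN N χ) := by
  classical
  haveI := Fintype.ofFinite P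
  obtain ⟨a, rfl⟩ := IsChar.exists_decomp h
  rw [avgN_sum, ← Finset.sum_sub_distrib]
  refine IsChar.sum fun φ _ => ?_
  rw [avgN_smul, ← smul_sub]
  refine IsChar.nsmul ?_ _
  rcases avgN_irr N φ.2 with ⟨-, e⟩ | ⟨-, e⟩ <;> rw [e]
  · rw [sub_zero]; exact IsIrr.isCharacter φ.2
  · rw [sub_self]; exact IsChar.zero

/-- A character averaging to its degree on `N` is constant on `N`. -/
theorem const_of_avg_eq (N : Subgroup P) [N.Normal] [Fintype N] {χ : P → ℂ}
    (h : IsCharacter P χ) (he : avgN N χ 1 = χ 1) {l : P} (hl : l ∈ N) : χ l = χ 1 := by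
  haveI := Fintype.ofFinite P
  have h0 := char_zero (isChar_sub_avgN N h) (by rw [Pi.sub_apply, he, sub_self])
  have h1 := congrFun h0 l
  rw [Pi.sub_apply, Pi.zero_apply, sub_eq_zero] at h1
  have h2 := avgN_mul_left N χ ⟨l, hl⟩ 1
  simp only [mul_one] at h2
  rw [h1, h2, he]

theorem powInv_avgN (hP : IsPGroup p P) (N : Subgroup P) [N.Normal] [Fintype N] {χ : P → ℂ}
    (h : IsCharacter P χ) (hr : PowInv p χ) : PowInv p (avgN N χ) := by
  haveI := Fintype.ofFinite P
  intro k hk x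
  obtain ⟨e, he⟩ := IsPGroup.iff_card.mp hP
  have hk' : k.Coprime (Nat.card P) := he ▸ Nat.Coprime.pow_right e hk
  obtain ⟨σ, hσ⟩ := exists_galois (G := P) k hk'
  rw [← hσ _ (IsChar.avgN N h) x]
  simp only [avgN, map_mul, map_inv₀, map_natCast, map_sum]
  congr 1
  exact Finset.sum_congr rfl fun n _ => by rw [hσ _ h, hr k hk]

theorem sum_range_pow (a : P) [Fintype (Subgroup.zpowers a)] (f : P → ℂ) :
    ∑ i ∈ Finset.range (orderOf a), f (a ^ i) = ∑ b : Subgroup.zpowers a, f b := by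
  rw [← Fin.sum_univ_eq_sum_range]
  exact Fintype.sum_equiv (finEquivZPowers (isOfFinOrder_of_finite a)) _ _ fun i => by
    rw [finEquivZPowers_apply]

theorem avgN_zpowers (a : P) [Fintype (Subgroup.zpowers a)] (f : P → ℂ) (x : P) :
    avgN (Subgroup.zpowers a) f x
      = (orderOf a : ℂ)⁻¹ * ∑ i ∈ Finset.range (orderOf a), f (a ^ i * x) := by
  rw [avgN, Nat.card_zpowers, sum_range_pow a fun b => f (b * x)]

/-- The statement proved by induction. -/
def Bound (p n : ℕ) : Prop :=
  ∀ (P : Type u) [Group P] [Finite P], IsPGroup p P → ∀ R : P → ℂ, IsCharacter P R →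
    R 1 = (n : ℂ) → PowInv p R → (∀ x, R x = R 1 → x = 1) → Nat.card P ≤ p ^ S p n

theorem index_ker_le {m : ℕ} (IH : Bound.{u} p m) (hP : IsPGroup p P) {R : P → ℂ}
    (h : IsCharacter P R) (hm : R 1 = (m : ℂ)) (hr : PowInv p R) :
    ∃ K : Subgroup P, (∀ x ∈ K, R x = R 1) ∧ K.index ≤ p ^ S p m := by
  obtain ⟨n, ρ, rfl⟩ := h
  refine ⟨ρ.ker, fun x hx => ?_, ?_⟩
  · rw [Representation.character, Representation.character, MonoidHom.mem_ker.mp hx, map_one ρ]
  · let ρ' : Representation ℂ (P ⧸ ρ.ker) (Fin n → ℂ) :=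
      QuotientGroup.lift ρ.ker (ρ : P →* Module.End ℂ (Fin n → ℂ)) le_rfl
    have hq : ∀ x : P, ρ'.character (x : P ⧸ ρ.ker) = ρ.character x := fun x => rfl
    refine IH (P ⧸ ρ.ker) (hP.to_quotient _) ρ'.character ⟨n, ρ', rfl⟩ ?_ ?_ ?_
    · exact (hq 1).trans hm
    · intro k hk y
      induction y using QuotientGroup.induction_on with
      | _ x => rw [← QuotientGroup.mk_pow, hq, hq, hr k hk]
    · intro y hy
      induction y using QuotientGroup.induction_on with
      | _ x =>
        rw [Representation.char_one, character_eq_finrank_iff] at hy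
        exact (QuotientGroup.eq_one_iff x).mpr hy

/-- The step at a normal subgroup `⟨z, e⟩`. -/
theorem step_plane {n : ℕ} (IH : ∀ m < n, Bound.{u} p m) (hP : IsPGroup p P) {R : P → ℂ}
    (h : IsCharacter P R) (hn : R 1 = (n : ℂ)) (hr : PowInv p R) (hfaith : ∀ x, R x = R 1 → x = 1)
    {z e : P} (hz : z ∈ Subgroup.center P) (hzp : orderOf z = p) (hep : e ^ p = 1)
    (he : e ∉ Subgroup.zpowers z) (hnorm : ∀ x, x * e * x⁻¹ * e⁻¹ ∈ Subgroup.zpowers z)
    (hzero : ∀ y, ∑ i ∈ Finset.range p, R (z ^ i * y) = 0) :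
    Nat.card P ≤ p ^ S p n := by
  classical
  have hp2 := hp.out.two_le
  have hcz : ∀ x : P, x * z = z * x := fun x => Subgroup.mem_center_iff.1 hz x
  have hczi : ∀ (x : P) (i : ℕ), x * z ^ i = z ^ i * x := fun x i =>
    ((Commute.pow_right (hcz x) i : Commute x (z ^ i))).eq
  -- the translation by which an element moves `e`
  let ψ : P →* Subgroup.zpowers z :=
    MonoidHom.mk' (fun x => ⟨x * e * x⁻¹ * e⁻¹, hnorm x⟩) fun x y => Subtype.ext (by
      have hc : ∀ w : P, w * (y * e * y⁻¹ * e⁻¹) = y * e * y⁻¹ * e⁻¹ * w := fun w => by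
        obtain ⟨i, hi⟩ := Subgroup.mem_zpowers_iff.1 (hnorm y)
        rw [← hi]
        exact ((Commute.zpow_right (hcz w) i : Commute w (z ^ i))).eq
      show x * y * e * (x * y)⁻¹ * e⁻¹ = x * e * x⁻¹ * e⁻¹ * (y * e * y⁻¹ * e⁻¹)
      calc x * y * e * (x * y)⁻¹ * e⁻¹ = x * (y * e * y⁻¹ * e⁻¹) * (e * x⁻¹ * e⁻¹) := by group
        _ = y * e * y⁻¹ * e⁻¹ * (x * e * x⁻¹ * e⁻¹) := by rw [hc x]; group
        _ = x * e * x⁻¹ * e⁻¹ * (y * e * y⁻¹ * e⁻¹) := (hc _).symm)
  let H := ψ.ker
  have hHmem : ∀ x : P, x ∈ H ↔ x * e = e * x := fun x => by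
    show ψ x = 1 ↔ _
    rw [Subtype.ext_iff]
    show x * e * x⁻¹ * e⁻¹ = 1 ↔ _
    rw [mul_inv_eq_one, mul_inv_eq_iff_eq_mul]
  have hzH : z ∈ H := (hHmem z).2 (hcz e).symm
  have heH : e ∈ H := (hHmem e).2 rfl
  let E : ℕ → H := fun j => ⟨e * z ^ j, H.mul_mem heH (H.pow_mem hzH j)⟩
  have hEc : ∀ j, E j ∈ Subgroup.center H := fun j => Subgroup.mem_center_iff.2 fun x =>
    Subtype.ext (by
      show (x : P) * (e * z ^ j) = e * z ^ j * x
      rw [← mul_assoc, (hHmem x).1 x.2, mul_assoc, hczi, ← mul_assoc])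
  have hEn : ∀ j, (Subgroup.zpowers (E j)).Normal := fun j => ⟨fun a ha g => by
    have ha' : a ∈ Subgroup.center H := Subgroup.zpowers_le.2 (hEc j) ha
    rwa [Subgroup.mem_center_iff.1 ha' g, mul_inv_cancel_right]⟩
  haveI : ∀ j, Fintype (Subgroup.zpowers (E j)) := fun j => Fintype.ofFinite _
  have hEpow : ∀ j i, ((E j ^ i : H) : P) = e ^ i * (z ^ i) ^ j := fun j i => by
    rw [Subgroup.coe_pow]
    show (e * z ^ j) ^ i = _
    rw [Commute.mul_pow (hczi e j), ← pow_mul, ← pow_mul, mul_comm j i]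
  have hEne : ∀ j, E j ≠ 1 := fun j hj => he (by
    have hh : e * z ^ j = 1 := congrArg Subtype.val hj
    rw [eq_inv_of_mul_eq_one_left hh]
    exact Subgroup.inv_mem _ (Subgroup.pow_mem _ (Subgroup.mem_zpowers z) j))
  have hEord : ∀ j, orderOf (E j) = p := fun j => by
    refine orderOf_eq_prime (Subtype.ext ?_) (hEne j)
    rw [hEpow, hep, one_mul, ← hzp, pow_orderOf_eq_one, one_pow]
    rfl
  let RH : H → ℂ := fun x => R x
  have hRH : IsCharacter H RH := IsChar.res h H
  have hHP : IsPGroup p H := hP.to_subgroup H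
  have hRHr : PowInv p RH := fun k hk x => by
    show R ((x ^ k : H) : P) = R x
    rw [Subgroup.coe_pow, hr k hk]
  let f : Fin p → H → ℂ := fun j =>
    haveI := hEn j.1
    avgN (Subgroup.zpowers (E j.1)) RH
  have hf : ∀ j, IsCharacter H (f j) := fun j => by
    haveI := hEn j.1
    haveI := Fintype.ofFinite H
    exact IsChar.avgN _ hRH
  have hfr : ∀ j, PowInv p (f j) := fun j => by
    haveI := hEn j.1
    exact powInv_avgN hHP _ hRH hRHr
  have hfval : ∀ (j : Fin p) (x : H), f j x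
      = (p : ℂ)⁻¹ * ∑ i ∈ Finset.range p, R (e ^ i * ((z ^ i) ^ (j : ℕ) * x)) := fun j x => by
    show avgN (Subgroup.zpowers (E j.1)) RH x = _
    rw [avgN_zpowers, hEord]
    congr 1
    refine Finset.sum_congr rfl fun i _ => ?_
    show R ((E j.1 ^ i * x : H) : P) = _
    rw [Subgroup.coe_mul, hEpow, mul_assoc]
  have hsum : ∀ x : H, ∑ j, f j x = R x := by
    intro x
    simp only [hfval]
    rw [← Finset.mul_sum, Finset.sum_comm,
      ← Finset.sum_erase_add _ _ (Finset.mem_range.2 hp.out.pos), Finset.sum_eq_zero, zero_add]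
    · simp [hp.out.ne_zero]
    · intro i hi
      rw [Finset.mem_erase, Finset.mem_range] at hi
      have hord : orderOf (z ^ i) = p := by
        rw [orderOf_pow, hzp, Nat.Coprime.gcd_eq_one, Nat.div_one]
        exact (hp.out.coprime_iff_not_dvd.2 (Nat.not_dvd_of_pos_of_lt (Nat.pos_of_ne_zero hi.1) hi.2))
      have heq : Subgroup.zpowers (z ^ i) = Subgroup.zpowers z :=
        Subgroup.eq_of_le_of_card_ge (Subgroup.zpowers_le.2 (Subgroup.pow_mem _ (Subgroup.mem_zpowers z) i))
          (by rw [Nat.card_zpowers, Nat.card_zpowers, hord, hzp])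
      haveI := Fintype.ofFinite (Subgroup.zpowers (z ^ i))
      haveI := Fintype.ofFinite (Subgroup.zpowers z)
      let F : P → ℂ := fun b => R (e ^ i * (b * x))
      rw [Fin.sum_univ_eq_sum_range (fun j => R (e ^ i * ((z ^ i) ^ j * x)))]
      have h1 : ∑ j ∈ Finset.range p, F ((z ^ i) ^ j) = ∑ j ∈ Finset.range p, F (z ^ j) := by
        conv_lhs => rw [← hord, sum_range_pow]
        conv_rhs => rw [← hzp, sum_range_pow]
        exact Fintype.sum_equiv (MulEquiv.subgroupCongr heq).toEquiv _ _ fun b => rfl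
      refine h1.trans ?_
      rw [← hzero (e ^ i * x)]
      refine Finset.sum_congr rfl fun j _ => ?_
      show R (e ^ i * (z ^ j * x)) = _
      rw [← mul_assoc, hczi, mul_assoc]
  choose m hm using fun j => exists_degree (hf j)
  have hmsum : ∑ j, m j = n := by
    have h1 := hsum 1
    simp only [hm, Subgroup.coe_one] at h1
    rw [hn, ← Nat.cast_sum] at h1
    exact Nat.cast_injective h1
  have hfaithH : ∀ x : H, (∀ j, f j x = f j 1) → x = 1 := fun x hx =>
    Subtype.ext (hfaith x (by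
      rw [← hsum x, show R 1 = R ((1 : H) : P) from rfl, ← hsum 1]
      exact Finset.sum_congr rfl fun j _ => hx j))
  have hlt : ∀ j, m j < n := by
    intro j
    refine lt_of_le_of_ne (hmsum ▸ Finset.single_le_sum (fun _ _ => Nat.zero_le _)
      (Finset.mem_univ j)) fun hjn => ?_
    haveI := hEn j.1
    have h1 := const_of_avg_eq (Subgroup.zpowers (E j.1)) hRH
      ((hm j).trans (by rw [hjn]; exact hn.symm)) (Subgroup.mem_zpowers (E j.1))
    exact hEne j.1 (Subtype.ext (hfaith _ h1))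
  have hindex : H.index = 1 ∨ ∀ j, (H.index = p ∧ ∀ i : ℕ, f j 1 = f ⟨0, hp.out.pos⟩ 1) := by
    haveI : Fact (Nat.card (Subgroup.zpowers z)).Prime := ⟨by rw [Nat.card_zpowers, hzp]; exact hp.out⟩
    rcases Subgroup.eq_bot_or_eq_top_of_prime_card (G := Subgroup.zpowers z)
      ψ.range with hb | ht
    · left
      rw [show H = ψ.ker from rfl, Subgroup.index_ker, hb, Subgroup.card_bot]
    · right
      intro j
      have hidx : H.index = p := by
        rw [show H = ψ.ker from rfl, Subgroup.index_ker, ht, Subgroup.card_top, Nat.card_zpowers, hzp]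
      obtain ⟨x, hx⟩ : ∃ x, ψ x = ⟨z ^ (j : ℕ), Subgroup.pow_mem _ (Subgroup.mem_zpowers z) _⟩ :=
        MonoidHom.mem_range.1 (ht ▸ Subgroup.mem_top _)
      have hxe : x * e * x⁻¹ = e * z ^ (j : ℕ) := by
        have h1 : x * e * x⁻¹ * e⁻¹ = z ^ (j : ℕ) := congrArg Subtype.val hx
        rw [mul_inv_eq_iff_eq_mul] at h1
        rw [h1, hczi]
      refine ⟨hidx, fun _ => ?_⟩
      rw [hfval, hfval]
      congr 1
      refine Finset.sum_congr rfl fun i _ => ?_
      obtain ⟨q, ρ, rfl⟩ := h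
      simp only [pow_zero, one_mul, Subgroup.coe_one, mul_one]
      rw [← Representation.char_conj ρ (e ^ i) x, ← conj_pow, hxe, Commute.mul_pow (hczi e _),
        ← pow_mul, ← pow_mul, mul_comm i]
  have hIH : ∀ j, Bound.{u} p (m j) := fun j => IH _ (hlt j)
  have hcard : Nat.card H ≤ p ^ ∑ j, S p (m j) := by
    choose K hK hKi using fun j => index_ker_le (hIH j) hHP (hf j) (hm j) (hfr j)
    have hbot : (⨅ i, K i) = ⊥ := eq_bot_iff.2 fun x hx =>
      Subgroup.mem_bot.2 (hfaithH x fun i => hK i x (Subgroup.mem_iInf.1 hx i))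
    calc Nat.card H = (⨅ i, K i).index := by rw [hbot, Subgroup.index_bot]
      _ ≤ ∏ i, (K i).index := Subgroup.index_iInf_le K
      _ ≤ ∏ i, p ^ S p (m i) := Finset.prod_le_prod' fun i _ => hKi i
      _ = p ^ ∑ i, S p (m i) := Finset.prod_pow_eq_pow_sum _ _ _
  rcases hindex with h1 | h1
  · rw [← H.card_mul_index, h1, mul_one]
    exact hcard.trans (Nat.pow_le_pow_right hp.out.pos (hmsum ▸ S_sum hp2 _ _))
  · set j₀ : Fin p := ⟨0, hp.out.pos⟩
    have hall : ∀ j, m j = m j₀ := fun j => by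
      have h2 := (h1 j).2 0
      rw [hm, hm] at h2
      exact Nat.cast_injective h2
    have hn' : p * m j₀ = n := by
      rw [← hmsum, Finset.sum_congr rfl fun j _ => hall j]
      simp
    have hm0 : 1 ≤ m j₀ := by
      by_contra hc
      have hn0 : n = 0 := by rw [← hn', show m j₀ = 0 by omega, mul_zero]
      exact absurd (hlt j₀) (by omega)
    rw [← H.card_mul_index, (h1 j₀).1]
    refine (Nat.mul_le_mul_right p hcard).trans ?_
    rw [← pow_succ]
    refine Nat.pow_le_pow_right hp.out.pos ?_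
    rw [Finset.sum_congr rfl fun j _ => by rw [hall j]]
    have := S_mul_step hp2 hm0
    rw [hn'] at this
    simpa [add_comm] using this

/-- A cyclic subgroup of order `p ^ (j + 1)` needs degree `(p - 1) p ^ j`. -/
theorem le_degree (j : ℕ) {R : P → ℂ} (h : IsCharacter P R) {n : ℕ} (hn : R 1 = (n : ℂ))
    (hr : PowInv p R) (hfaith : ∀ x, R x = R 1 → x = 1) {a : P} (ha : orderOf a = p ^ (j + 1)) :
    (p - 1) * p ^ j ≤ n := by
  classical
  obtain ⟨d, ρ, rfl⟩ := h
  rw [Representation.char_one] at hn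
  have hd := Nat.cast_injective hn
  subst hd
  obtain ⟨b, c, -, hc, hk⟩ := exists_rep_eigenbasis ρ a
  have h1 : ∃ i, orderOf (c i) = p ^ (j + 1) := by
    by_contra hno
    push Not at hno
    have hlow : ∀ i, c i ^ p ^ j = 1 := by
      intro i
      obtain ⟨t, ht, ht'⟩ := (Nat.dvd_prime_pow hp.out).1 (ha ▸ orderOf_dvd_of_pow_eq_one (hc i))
      refine orderOf_dvd_iff_pow_eq_one.1 (ht' ▸ pow_dvd_pow p ?_)
      rcases Nat.lt_or_eq_of_le ht with hlt | heq
      · omega
      · exact absurd (heq ▸ ht') (hno i)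
    have h2 : a ^ p ^ j = 1 := hfaith _ (by
      rw [hk, Representation.char_one]
      simp [hlow])
    have h3 := orderOf_dvd_of_pow_eq_one h2
    rw [ha, Nat.pow_dvd_pow_iff_le_right hp.out.one_lt] at h3
    omega
  obtain ⟨i₀, hi₀⟩ := h1
  set q := p ^ (j + 1) with hq
  have hq0 : 0 < q := pow_pos hp.out.pos _
  have hprim : IsPrimitiveRoot (c i₀) q := hi₀ ▸ IsPrimitiveRoot.orderOf (c i₀)
  haveI : NeZero q := ⟨hq0.ne'⟩
  have hsub : primitiveRoots q ℂ ⊆ Finset.univ.image c := by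
    intro μ hμ
    rw [mem_primitiveRoots hq0] at hμ
    obtain ⟨k, -, hkc, rfl⟩ := (hprim.isPrimitiveRoot_iff (k := q)).1 hμ
    have hkp : k.Coprime p := Nat.Coprime.coprime_dvd_right (dvd_pow_self p j.succ_ne_zero) hkc
    by_contra hmem
    simp only [Finset.mem_image, Finset.mem_univ, true_and, not_exists] at hmem
    have hcq : ∀ i, c i ^ q = 1 := fun i => ha ▸ hc i
    have hgeom : ∀ w : ℂ, w ^ q = 1 → ∑ t ∈ Finset.range q, w ^ t = if w = 1 then (q : ℂ) else 0 := by
      intro w hw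
      by_cases hw1 : w = 1
      · simp [hw1]
      · rw [if_neg hw1, geom_sum_eq hw1, hw, sub_self, zero_div]
    set ν := (c i₀ ^ k)⁻¹ with hν
    have hνq : ν ^ q = 1 := by rw [hν, inv_pow, ← pow_mul, mul_comm, pow_mul, hcq, one_pow, inv_one]
    have key : ∀ s : ℕ, ∑ t ∈ Finset.range q, ν ^ t * (∑ i, (c i ^ s) ^ t)
        = ∑ i, if c i ^ s = c i₀ ^ k then (q : ℂ) else 0 := by
      intro s
      simp only [Finset.mul_sum, ← mul_pow]
      rw [Finset.sum_comm]
      refine Finset.sum_congr rfl fun i _ => ?_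
      rw [hgeom _ (by rw [mul_pow, hνq, one_mul, ← pow_mul, mul_comm, pow_mul, hcq, one_pow])]
      refine if_congr ?_ rfl rfl
      rw [hν, inv_mul_eq_iff_eq_mul₀ (pow_ne_zero _ (hprim.ne_zero hq0.ne')), mul_one]
    have heq : ∀ t, ∑ i, (c i ^ k) ^ t = ∑ i, (c i ^ 1) ^ t := fun t => by
      simp only [pow_one, ← pow_mul]
      rw [← hk, ← hk, mul_comm, pow_mul, hr k hkp]
    have h2 := key k
    rw [Finset.sum_congr rfl fun t _ => by rw [heq t], key 1] at h2
    simp only [pow_one] at h2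
    rw [Finset.sum_eq_zero (fun i _ => if_neg (hmem i))] at h2
    have h3 : (0 : ℝ) < (∑ i, if c i ^ k = c i₀ ^ k then (q : ℂ) else 0).re := by
      rw [Complex.re_sum]
      refine Finset.sum_pos' (fun i _ => ?_) ⟨i₀, Finset.mem_univ _, ?_⟩
      · split_ifs <;> simp
      · simp [hq0]
    rw [← h2] at h3
    simp at h3
  have h4 := (Finset.card_le_card hsub).trans Finset.card_image_le
  rw [Complex.card_primitiveRoots, hq, Nat.totient_prime_pow_succ hp.out] at h4
  simpa [mul_comm] using h4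

theorem bound_all : ∀ n, Bound.{u} p n := by
  intro n
  induction n using Nat.strong_induction_on with
  | _ n IH =>
  intro P _ _ hP R h hn hr hfaith
  classical
  haveI := Fintype.ofFinite P
  have hp2 := hp.out.two_le
  rcases subsingleton_or_nontrivial P with hs | hs
  · rw [Nat.card_of_subsingleton (1 : P)]
    exact Nat.one_le_pow _ _ hp.out.pos
  haveI := hP.center_nontrivial
  obtain ⟨z₀, hz₀⟩ := exists_prime_orderOf_dvd_card' (G := Subgroup.center P) p (by
    obtain ⟨e, he⟩ := IsPGroup.iff_card.mp (hP.to_subgroup (Subgroup.center P))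
    rw [he]
    refine dvd_pow_self p fun h0 => ?_
    rw [h0, pow_zero] at he
    exact (Finite.one_lt_card (α := Subgroup.center P)).ne' he)
  set z : P := z₀.1 with hzdef
  have hzp : orderOf z = p := by rw [hzdef, Subgroup.orderOf_coe]; exact hz₀
  have hz : z ∈ Subgroup.center P := z₀.2
  have hzn : (Subgroup.zpowers z).Normal := ⟨fun a ha g => by
    have ha' : a ∈ Subgroup.center P := Subgroup.zpowers_le.2 hz ha
    rwa [Subgroup.mem_center_iff.1 ha' g, mul_inv_cancel_right]⟩
  haveI := Fintype.ofFinite (Subgroup.zpowers z)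
  set R₀ := avgN (Subgroup.zpowers z) R with hR₀
  have hR₀c : IsCharacter P R₀ := IsChar.avgN _ h
  obtain ⟨m₀, hm₀⟩ := exists_degree hR₀c
  have hR₁c := isChar_sub_avgN (Subgroup.zpowers z) h
  obtain ⟨m₁, hm₁⟩ := exists_degree hR₁c
  have hz1 : z ≠ 1 := fun e => by simp [e] at hzp; exact hp.out.ne_one hzp.symm
  by_cases hm : m₀ = 0
  swap
  · -- two parts
    have hsum : m₀ + m₁ = n := by
      rw [Pi.sub_apply, hn, ← hR₀, hm₀] at hm₁
      have h' : ((m₀ + m₁ : ℕ) : ℂ) = n := by push_cast; rw [← hm₁]; ring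
      exact Nat.cast_injective h'
    have hm₁0 : m₁ ≠ 0 := fun h0 => hz1 (hfaith z (const_of_avg_eq (Subgroup.zpowers z) h
      (by rw [hn, ← hR₀, hm₀]; exact congrArg Nat.cast (by omega)) (Subgroup.mem_zpowers z)))
    have hr₀ := powInv_avgN hP (Subgroup.zpowers z) h hr
    obtain ⟨K₀, hK₀, hK₀i⟩ := index_ker_le (IH m₀ (by omega)) hP hR₀c hm₀ hr₀
    obtain ⟨K₁, hK₁, hK₁i⟩ := index_ker_le (IH m₁ (by omega)) hP hR₁c hm₁ fun k hk x => by
      rw [Pi.sub_apply, Pi.sub_apply, hr k hk, hr₀ k hk]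
    have hbot : K₀ ⊓ K₁ = ⊥ := eq_bot_iff.2 fun x hx => Subgroup.mem_bot.2 (hfaith x (by
      have h0 := hK₀ x hx.1
      have h1 := hK₁ x hx.2
      rw [Pi.sub_apply, Pi.sub_apply, ← hR₀, h0] at h1
      exact sub_left_injective h1))
    calc Nat.card P = (K₀ ⊓ K₁).index := by rw [hbot, Subgroup.index_bot]
      _ ≤ K₀.index * K₁.index := Subgroup.index_inf_le
      _ ≤ p ^ S p m₀ * p ^ S p m₁ := Nat.mul_le_mul hK₀i hK₁i
      _ = p ^ (S p m₀ + S p m₁) := (pow_add _ _ _).symm
      _ ≤ p ^ S p n := Nat.pow_le_pow_right hp.out.pos (hsum ▸ S_add hp2 _ _)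
  have hzero : ∀ y, ∑ i ∈ Finset.range p, R (z ^ i * y) = 0 := fun y => by
    have h0 := congrFun (char_zero hR₀c (by rw [hm₀, hm, Nat.cast_zero])) y
    rw [hR₀, avgN_zpowers, hzp] at h0
    simpa [hp.out.ne_zero] using h0
  by_cases hE : ∃ e : P, e ^ p = 1 ∧ e ∉ Subgroup.zpowers z ∧
      ∀ x, x * e * x⁻¹ * e⁻¹ ∈ Subgroup.zpowers z
  · obtain ⟨e, hep, he, hnorm⟩ := hE
    exact step_plane IH hP h hn hr hfaith hz hzp hep he hnorm hzero
  push Not at hE
  obtain ⟨A, hAn, hAc⟩ := Fus.exists_selfCentralizing_normal_abelian hP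
  haveI := hAn
  have hzA : z ∈ A := hAc ▸ Subgroup.mem_centralizer_iff.2 fun a _ =>
    Subgroup.mem_center_iff.1 hz a
  letI : CommGroup A :=
    { (inferInstance : Group A) with
      mul_comm := fun a b => Subtype.ext
        (Subgroup.mem_centralizer_iff.1 (hAc.symm ▸ b.2 : (b : P) ∈ Subgroup.centralizer (A : Set P))
          a a.2) }
  haveI hcyc : IsCyclic A := by
    refine Fus.isCyclic_of_unique_order_prime (q := p) (hP.to_subgroup A)
      fun a b ha hb hane => ?_
    have key : ∀ w : A, w ^ p = 1 → (w : P) ∈ Subgroup.zpowers z := by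
      intro w hw
      by_contra hwz
      let M : Subgroup P :=
        { carrier := {x | x ∈ A ∧ x ^ p = 1}
          one_mem' := ⟨A.one_mem, one_pow _⟩
          mul_mem' := fun {x y} hx hy => ⟨A.mul_mem hx.1 hy.1, by
            have hc : Commute x y :=
              congrArg Subtype.val (mul_comm (⟨x, hx.1⟩ : A) ⟨y, hy.1⟩)
            rw [hc.mul_pow, hx.2, hy.2, one_mul]⟩
          inv_mem' := fun {x} hx => ⟨A.inv_mem hx.1, by rw [inv_pow, hx.2, inv_one]⟩ }
      haveI : M.Normal := ⟨fun x hx g => ⟨hAn.conj_mem x hx.1 g, by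
        rw [conj_pow, hx.2, mul_one, mul_inv_cancel]⟩⟩
      haveI := hzn
      set π := QuotientGroup.mk' (Subgroup.zpowers z)
      haveI : (M.map π).Normal := Subgroup.Normal.map inferInstance π (QuotientGroup.mk'_surjective _)
      have hne : M.map π ≠ ⊥ := fun h0 => hwz ((QuotientGroup.eq_one_iff (w : P)).1
        (Subgroup.mem_bot.1 (h0 ▸ Subgroup.mem_map_of_mem π
          (show (w : P) ∈ M from ⟨w.2, congrArg Subtype.val hw⟩))))
      haveI := (hP.to_quotient (Subgroup.zpowers z)).isNilpotent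
      obtain ⟨⟨c, hcM, hcz⟩, hc1⟩ :=
        Subgroup.ne_bot_iff_exists_ne_one.1 (Grp.inf_center_ne_bot (M.map π) hne)
      obtain ⟨e, he, rfl⟩ := hcM
      have hez : e ∉ Subgroup.zpowers z := fun h' =>
        hc1 (Subtype.ext ((QuotientGroup.eq_one_iff e).2 h'))
      obtain ⟨x, hx⟩ := hE e he.2 hez
      refine hx ((QuotientGroup.eq_one_iff _).1 ?_)
      have hcomm := Subgroup.mem_center_iff.1 hcz (π x)
      change π (x * e * x⁻¹ * e⁻¹) = 1
      simp only [map_mul, map_inv, hcomm]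
      group
    have hza : (a : P) ∈ Subgroup.zpowers z := key a ha
    have hzeq : Subgroup.zpowers (a : P) = Subgroup.zpowers z :=
      Subgroup.eq_of_le_of_card_ge (Subgroup.zpowers_le.2 hza) (by
        rw [Nat.card_zpowers, Nat.card_zpowers, hzp, orderOf_eq_prime
          (by rw [← Subgroup.coe_pow, ha, Subgroup.coe_one])
          (fun e => hane (Subtype.ext e))])
    obtain ⟨i, hi⟩ := Subgroup.mem_zpowers_iff.1 (hzeq ▸ key b hb)
    exact Subgroup.mem_zpowers_iff.2 ⟨i, Subtype.ext (by rw [Subgroup.coe_zpow]; exact hi)⟩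
  obtain ⟨j', hj'⟩ := IsPGroup.iff_card.mp (hP.to_subgroup A)
  obtain ⟨j, rfl⟩ : ∃ j, j' = j + 1 := ⟨j' - 1, by
    rcases Nat.eq_zero_or_pos j' with h0 | h0
    · exfalso
      rw [h0, pow_zero] at hj'
      exact hz1 (Subgroup.mem_bot.1 (Subgroup.eq_bot_of_card_eq A hj' ▸ hzA))
    · omega⟩
  obtain ⟨g, hg⟩ := IsCyclic.exists_generator (α := A)
  have hgo : orderOf (g : P) = p ^ (j + 1) := by
    rw [Subgroup.orderOf_coe, orderOf_eq_card_of_forall_mem_zpowers hg, hj']
  have hdeg := le_degree j h hn hr hfaith hgo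
  -- the automorphisms induced on `A`
  let c : P →* MulAut A := MulAut.conjNormal
  have hker : c.ker = A := by
    ext x
    rw [MonoidHom.mem_ker]
    constructor
    · intro hx
      rw [← hAc, Subgroup.mem_centralizer_iff]
      intro a ha
      have h1 := congrArg Subtype.val (DFunLike.congr_fun hx ⟨a, ha⟩)
      change x * a * x⁻¹ = a at h1
      rw [mul_inv_eq_iff_eq_mul] at h1
      exact h1.symm
    · intro hx
      refine MulEquiv.ext fun a => Subtype.ext ?_
      show x * a * x⁻¹ = (a : P)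
      rw [mul_inv_eq_iff_eq_mul]
      exact congrArg Subtype.val (mul_comm (⟨x, hx⟩ : A) a)
  obtain ⟨t, ht⟩ := IsPGroup.iff_card.mp (hP.of_surjective c.rangeRestrict c.rangeRestrict_surjective)
  have htd : p ^ t ∣ (p - 1) * p ^ j := by
    rw [← ht, mul_comm, ← Nat.totient_prime_pow_succ hp.out, ← hj', ← IsCyclic.card_mulAut A]
    exact Subgroup.card_subgroup_dvd_card _
  have htj : t ≤ j := by
    have hcop : (p ^ t).Coprime (p - 1) := Nat.Coprime.pow_left _
      (hp.out.coprime_iff_not_dvd.2 (Nat.not_dvd_of_pos_of_lt (by omega) (by omega)))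
    exact (Nat.pow_dvd_pow_iff_le_right hp.out.one_lt).1 (hcop.dvd_of_dvd_mul_left htd)
  rw [← A.card_mul_index, hj', ← hker, Subgroup.index_ker, ht, ← pow_add]
  refine Nat.pow_le_pow_right hp.out.pos ?_
  have h5 := two_mul_le_S hp2 j
  have h6 := S_mono hp2 hdeg
  omega

/-- A finite `p`-group with a faithful character of degree `n`, invariant under the power maps
prime to `p`, has order at most `p ^ S p n`. -/
theorem card_le (hP : IsPGroup p P) {R : P → ℂ} (h : IsCharacter P R) {n : ℕ} (hn : R 1 = (n : ℂ))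
    (hr : PowInv p R) (hfaith : ∀ x, R x = R 1 → x = 1) : Nat.card P ≤ p ^ S p n :=
  bound_all n P hP R h hn hr hfaith

end Cfsg.Agent.Block.WinterBound
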